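import Cfsg.Agent.Helper28.ONSub
import Cfsg.Agent.Helper28.ON1.Main
import Cfsg.Agent.Helper28.ONP1.Main
import Cfsg.Agent.Helper28.ONP2.Main
set_option autoImplicit false
set_option linter.constructorNameAsVariable false
namespace Cfsg.Agent.Helper28.ONC
open Cfsg.Agent.Helper28 Cfsg.Spor

theorem hY0 : ON1.Y = Set.range (fun z => FreeGroup.of (ONP1D.iota z)) := by
  ext y
  constructor
  · intro (h : y ∈ ON1.Ylist)
    simp only [ON1.Ylist, List.mem_cons, List.not_mem_nil, or_false] at h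
    rcases h with rfl | rfl | rfl | rfl | rfl | rfl
    exacts [⟨.a, rfl⟩, ⟨.b, rfl⟩, ⟨.c, rfl⟩, ⟨.d, rfl⟩, ⟨.e, rfl⟩, ⟨.f, rfl⟩]
  · rintro ⟨z, rfl⟩
    show _ ∈ ON1.Ylist
    cases z <;> simp [ON1.Ylist, ONP1D.iota]

theorem hY1 : ONP1.Y = Set.range (fun z => FreeGroup.of (ONP2D.iota z)) := by
  ext y
  constructor
  · intro (h : y ∈ ONP1.Ylist)
    simp only [ONP1.Ylist, List.mem_cons, List.not_mem_nil, or_false] at h
    rcases h with rfl | rfl | rfl | rfl | rfl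
    exacts [⟨.a, rfl⟩, ⟨.c, rfl⟩, ⟨.d, rfl⟩, ⟨.e, rfl⟩, ⟨.f, rfl⟩]
  · rintro ⟨z, rfl⟩
    show _ ∈ ONP1.Ylist
    cases z <;> simp [ONP1.Ylist, ONP2D.iota]

theorem hY2 : ONP2.Y = ∅ := by
  ext y; simp [ONP2.Ylist]

theorem upper2 : Finite (PresentedGroup ONP2.R) ∧ Nat.card (PresentedGroup ONP2.R) = 672 :=
  card_of_index_bot ONP2.R ONP2.Y hY2 672 (by omega) ONP2.main_index

theorem upper1 : Finite (PresentedGroup ONP1.R) ∧
    Nat.card (PresentedGroup ONP1.R) ≤ 5586 * 672 := by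
  obtain ⟨h1, h2, -⟩ := card_le_of_link ONP2D.iota ONP2.R ONP1.R ONP2D.hrels
    ONP1.Y hY1 5586 (672) (by omega) ONP1.main_index upper2.1 (le_of_eq upper2.2)
  exact ⟨h1, h2⟩

theorem upper0 : Finite (PresentedGroup ON1.R) ∧
    Nat.card (PresentedGroup ON1.R) ≤ 122760 * (5586 * 672) := by
  obtain ⟨h1, h2, -⟩ := card_le_of_link ONP1D.iota ONP1.R ON1.R ONP1D.hrels
    ON1.Y hY0 122760 (5586 * 672) (by omega) ON1.main_index upper1.1 upper1.2
  exact ⟨h1, h2⟩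

theorem upper : Finite (PresentedGroup ON1.R) ∧ Nat.card (PresentedGroup ON1.R) ≤ 460815505920 :=
  ⟨upper0.1, le_trans upper0.2 (by norm_num)⟩

end Cfsg.Agent.Helper28.ONC
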