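import Cfsg.Agent.Helper28.ONC.XW
set_option autoImplicit false
set_option maxRecDepth 1000000
namespace Cfsg.Agent.Helper28.ONC
open Cfsg.Agent.Helper28 Cfsg.Agent.Helper28.ON1 Cfsg.Spor

theorem xp_0 : permPieceF (fun _ => wp) letSel 0 1 0 12000 = true := by decide +kernel
theorem xp_12000 : permPieceF (fun _ => wp) letSel 0 1 12000 12000 = true := by decide +kernel
theorem xp_24000 : permPieceF (fun _ => wp) letSel 0 1 24000 12000 = true := by decide +kernel
end Cfsg.Agent.Helper28.ONC
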