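import Cfsg.Agent.Helper28.ONC.Chain
import Cfsg.Agent.Helper28.ONC.Upper
import Cfsg.Agent.Helper28.ONQ.Main
import Cfsg.Agent.Helper28.ChainMain
import Cfsg.Agent.Helper28.ONC.XP0
import Cfsg.Agent.Helper28.ONC.XP1
import Cfsg.Agent.Helper28.ONC.XP2
import Cfsg.Agent.Helper28.ONC.XP3
set_option autoImplicit false
set_option maxRecDepth 1000000
namespace Cfsg.Agent.Helper28.ONC
open Cfsg.Agent.Helper28 Cfsg.Agent.Helper28.ON1 Cfsg.Spor

theorem hrels : ∀ r ∈ ON1.R, rhoF idx 7 ptabs inv_ok layout.hL r = 1 :=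
  layout.hrels inv_ok hperm_all

theorem card_inj : Nat.card (PresentedGroup ON1.R) = 460815505920 ∧
    Function.Injective (rhoG ON1.R idx 7 ptabs inv_ok layout.hL hrels) :=
  card_eq_and_injective ON1.R idx 7 ptabs inv_ok layout.hL hrels 460815505920 upper.1 upper.2 lower_bound

theorem xfix_all : TraceFix ptabs.perm (fun _ => wp) 0 1 122760 := by
  have h0 : TraceFix ptabs.perm (fun _ => wp) 0 1 12000 := traceFix_extendF _ _ letSel perm_eq 0 1 0 12000 12000 rfl (traceFix_zero _ _ 0 1) xp_0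
  have h1 : TraceFix ptabs.perm (fun _ => wp) 0 1 24000 := traceFix_extendF _ _ letSel perm_eq 0 1 12000 12000 24000 rfl h0 xp_12000
  have h2 : TraceFix ptabs.perm (fun _ => wp) 0 1 36000 := traceFix_extendF _ _ letSel perm_eq 0 1 24000 12000 36000 rfl h1 xp_24000
  have h3 : TraceFix ptabs.perm (fun _ => wp) 0 1 48000 := traceFix_extendF _ _ letSel perm_eq 0 1 36000 12000 48000 rfl h2 xp_36000
  have h4 : TraceFix ptabs.perm (fun _ => wp) 0 1 60000 := traceFix_extendF _ _ letSel perm_eq 0 1 48000 12000 60000 rfl h3 xp_48000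
  have h5 : TraceFix ptabs.perm (fun _ => wp) 0 1 72000 := traceFix_extendF _ _ letSel perm_eq 0 1 60000 12000 72000 rfl h4 xp_60000
  have h6 : TraceFix ptabs.perm (fun _ => wp) 0 1 84000 := traceFix_extendF _ _ letSel perm_eq 0 1 72000 12000 84000 rfl h5 xp_72000
  have h7 : TraceFix ptabs.perm (fun _ => wp) 0 1 96000 := traceFix_extendF _ _ letSel perm_eq 0 1 84000 12000 96000 rfl h6 xp_84000
  have h8 : TraceFix ptabs.perm (fun _ => wp) 0 1 108000 := traceFix_extendF _ _ letSel perm_eq 0 1 96000 12000 108000 rfl h7 xp_96000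
  have h9 : TraceFix ptabs.perm (fun _ => wp) 0 1 120000 := traceFix_extendF _ _ letSel perm_eq 0 1 108000 12000 120000 rfl h8 xp_108000
  have h10 : TraceFix ptabs.perm (fun _ => wp) 0 1 122760 := traceFix_extendF _ _ letSel perm_eq 0 1 120000 2760 122760 rfl h9 xp_120000
  exact h10

theorem hrelp : relOk ptabs wp 0 ptabs.n = true :=
  relOk_of_traceFix ptabs (fun _ => wp) 0 1 xfix_all 0 (le_refl 0) (by omega)

theorem hYQ : ONQ.Y = ∅ := by
  ext y; simp [ONQ.Ylist]

theorem hnc : ∀ Nn : Subgroup (PresentedGroup ON1.R), Nn.Normal →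
    PresentedGroup.mk ON1.R ONQD.xw ∈ Nn → Nn = ⊤ := by
  intro Nn hN hx
  refine normal_eq_top_of_collapse ON1.R ONQ.R ONQD.xw ?_
    (subsingleton_of_index_bot ONQ.R ONQ.Y hYQ ONQ.main_index) Nn hN hx
  intro r hr
  rcases hr with hr | hr
  · exact Or.inl (Or.inl hr)
  · have hr' : r ∈ ON.extra ++ [ONQD.xw] := hr
    rcases List.mem_append.mp hr' with h | h
    · exact Or.inl (Or.inr h)
    · exact Or.inr (List.mem_singleton.mp h)

/-- sizes of the orbits of the point stabiliser -/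
def sz (t : ℕ) : ℕ := if t = 1 then 58653 else if t = 0 then 1 else if t = 6 then 52136 else if t = 12 then 5586 else 6384

theorem hsz : ∀ t ∈ [1, 0, 6, 12, 32].toFinset, countEq (fun j => oRoot (orb2 j)) t ptabs.n = sz t := by
  intro t ht
  simp only [List.toFinset_cons, List.toFinset_nil, Finset.mem_insert, Finset.mem_singleton,
    insert_empty_eq] at ht
  rcases ht with rfl | rfl | rfl | rfl | rfl
  · exact cnt2
  · exact cnt2_0
  · exact cnt2_6
  · exact cnt2_12
  · exact cnt2_32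

theorem hdiv : ∀ T ∈ ([1, 0, 6, 12, 32].toFinset : Finset ℕ).powerset, 0 ∈ T → (∑ t ∈ T, sz t) ∣ ptabs.n →
    T = {0} ∨ T = [1, 0, 6, 12, 32].toFinset := by
  decide

theorem simple : IsSimpleGroup (PresentedGroup ON1.R) :=
  simple_of_chain ON1.R gen idx 7 ptabs inv_ok layout.hL hrels 460815505920 upper.1 card_inj.1 card_inj.2
    layout.hig hn ws1 7 let_ok1 fix_ok1 orb1 orb_ok1 root_ok1
    ws2 6 let_ok2 fix_ok2 orb2 orb_ok2 [1, 0, 6, 12, 32].toFinset (rootsOkW_sound orb2 _ _ roots_ok2) sz hsz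
    (by decide +kernel) rfl hdiv ONQD.xw 5 wp hwp hletp hrelp (by decide +kernel) hnc (by norm_num)

end Cfsg.Agent.Helper28.ONC
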