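import Cfsg.Agent.Helper28.ONC.LvD2
set_option autoImplicit false
set_option maxRecDepth 1000000
namespace Cfsg.Agent.Helper28.ONC
open Cfsg.Agent.Helper28 Cfsg.Agent.Helper28.ON1
theorem orb_ok2_p0 : allLtFrom (orbOkW ws2 6 ptabs orb2) 0 122760 = true := by decide +kernel
theorem let_ok2 : lettersOkW ws2 6 ptabs.L = true := by decide +kernel
theorem fix_ok2 : fixOkW ws2 6 ptabs [0] = true := by decide +kernel
theorem cnt2 : countEq (fun j => oRoot (orb2 j)) 1 122760 = 58653 := by decide +kernel
theorem roots_ok2 : rootsOkW orb2 [1, 0, 6, 12, 32] ptabs.n = true := by decide +kernel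
theorem cnt2_0 : countEq (fun j => oRoot (orb2 j)) 0 122760 = 1 := by decide +kernel
theorem cnt2_6 : countEq (fun j => oRoot (orb2 j)) 6 122760 = 52136 := by decide +kernel
theorem cnt2_12 : countEq (fun j => oRoot (orb2 j)) 12 122760 = 5586 := by decide +kernel
theorem cnt2_32 : countEq (fun j => oRoot (orb2 j)) 32 122760 = 6384 := by decide +kernel
end Cfsg.Agent.Helper28.ONC
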