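import Cfsg.Agent.Helper28.ONC.LvD4
set_option autoImplicit false
set_option maxRecDepth 1000000
namespace Cfsg.Agent.Helper28.ONC
open Cfsg.Agent.Helper28 Cfsg.Agent.Helper28.ON1
theorem orb_ok4_p0 : allLtFrom (orbOkW ws4 1 ptabs orb4) 0 122760 = true := by decide +kernel
theorem let_ok4 : lettersOkW ws4 1 ptabs.L = true := by decide +kernel
theorem fix_ok4 : fixOkW ws4 1 ptabs [31190, 1, 0] = true := by decide +kernel
theorem cnt4 : countEq (fun j => oRoot (orb4 j)) 77678 122760 = 2 := by decide +kernel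
end Cfsg.Agent.Helper28.ONC
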