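import Cfsg.Agent.Helper28.ON1.Main
import Cfsg.Agent.Helper28.ONSub
import Cfsg.Agent.Helper28.CosetFun
set_option autoImplicit false
set_option maxRecDepth 1000000
namespace Cfsg.Agent.Helper28.ONC
open Cfsg.Agent.Helper28 Cfsg.Agent.Helper28.ON1 Cfsg.Spor

/-- the word of `x ^ 5` -/
def wp : List Nat := [8, 0, 4, 6, 8, 0, 4, 6, 8, 0, 4, 6, 8, 0, 4, 6, 8, 0, 4, 6]

theorem hwp : ev gen 7 wp = ONQD.xw ^ 5 := by decide +kernel
theorem hletp : ∀ l ∈ wp, l < ptabs.L := by decide +kernel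
end Cfsg.Agent.Helper28.ONC
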